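import Cfsg.Agent.Lib.Char.Complete
import Cfsg.Agent.Lib.Char.Linear
import Cfsg.Agent.Lib.Char.Virtual
import Cfsg.Agent.Lib.Char.Twist
import Mathlib

/-!
# Groups with an element at which every nontrivial irreducible character is `χ 1 - 4` or `0`
-/

set_option autoImplicit false

open scoped ComplexConjugate Classical

namespace CfsgLib.DegMinusValue

open CfsgLib.Char

universe u

variable {G : Type u} [Group G] [Fintype G]

/-- Every nonprincipal irreducible character takes the value `χ 1 - 4` or `0` at `x`. -/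
def Hyp (x : G) : Prop :=
  ∀ χ : Cfsg.IrrCharacter G, (χ : G → ℂ) ≠ (fun _ => (1 : ℂ)) →
    ((χ : G → ℂ) 1 - (χ : G → ℂ) x = 4 ∨ (χ : G → ℂ) x = 0)

theorem ne_principal_iff (χ : Cfsg.IrrCharacter G) :
    χ ≠ principalIrr ↔ (χ : G → ℂ) ≠ (fun _ => (1 : ℂ)) :=
  not_congr Subtype.ext_iff

/-- The difference between the degree and the value at `x`, as a natural number. -/
noncomputable def defect (x : G) (χ : Cfsg.IrrCharacter G) : ℕ :=
  if χ = principalIrr then 0 else if (χ : G → ℂ) x = 0 then degree (χ : G → ℂ) else 4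

theorem defect_principal (x : G) : defect x principalIrr = 0 := if_pos rfl

theorem defect_pos (x : G) {χ : Cfsg.IrrCharacter G} (h : χ ≠ principalIrr) : 0 < defect x χ := by
  rw [defect, if_neg h]
  split_ifs
  · exact IsIrrCharacter.degree_pos χ.2
  · norm_num

theorem cast_degree (χ : Cfsg.IrrCharacter G) :
    (degree (χ : G → ℂ) : ℂ) = (χ : G → ℂ) 1 :=
  IsCharacter.degree_cast (IsIrrCharacter.isCharacter χ.2)

variable {x : G} (hx : Hyp x)
include hx

theorem sub_eq_defect (χ : Cfsg.IrrCharacter G) :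
    (χ : G → ℂ) 1 - (χ : G → ℂ) x = (defect x χ : ℂ) := by
  rw [defect]
  split_ifs with h1 h2
  · subst h1; simp
  · rw [h2, sub_zero, cast_degree]
  · rcases hx χ ((ne_principal_iff χ).1 h1) with h | h
    · rw [h]; norm_num
    · exact absurd h h2

theorem conj_value (χ : Cfsg.IrrCharacter G) :
    conj ((χ : G → ℂ) x) = (χ : G → ℂ) x := by
  have h : (χ : G → ℂ) x = (degree (χ : G → ℂ) : ℂ) - (defect x χ : ℂ) := by
    rw [← sub_eq_defect hx, cast_degree]; ring
  rw [h, map_sub, Complex.conj_natCast, Complex.conj_natCast]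

theorem commutator_eq_top : commutator G = ⊤ := by
  by_contra h
  obtain ⟨g, hg⟩ : ∃ g : G, g ∉ commutator G := by
    by_contra hall
    push Not at hall
    exact h (eq_top_iff.2 fun y _ => hall y)
  have hne : Abelianization.of g ≠ 1 := fun h1 => hg ((QuotientGroup.eq_one_iff g).1 h1)
  haveI : Finite (Abelianization G) := Finite.of_surjective Abelianization.of
    QuotientGroup.mk_surjective
  haveI : NeZero (Monoid.exponent (Abelianization G) : ℂ) :=
    ⟨Nat.cast_ne_zero.2 Monoid.exponent_ne_zero_of_finite⟩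
  obtain ⟨φ, hφ⟩ := CommGroup.exists_apply_ne_one_of_hasEnoughRootsOfUnity (Abelianization G) ℂ hne
  let f : G →* ℂˣ := φ.comp Abelianization.of
  have hf : (fun y => (f y : ℂ)) ≠ fun _ => (1 : ℂ) := fun h1 =>
    hφ (Units.ext (congrFun h1 g))
  have hn : ‖(f x : ℂ)‖ = 1 := by
    refine Complex.norm_eq_one_of_pow_eq_one (n := orderOf x) ?_ (orderOf_pos x).ne'
    rw [← Units.val_pow_eq_pow_val, ← map_pow, pow_orderOf_eq_one, map_one, Units.val_one]
  rcases hx ⟨_, isIrrCharacter_linear f⟩ hf with h1 | h1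
  · simp only [map_one, Units.val_one] at h1
    rw [show (f x : ℂ) = -3 by linear_combination -h1] at hn
    norm_num at hn
  · change (f x : ℂ) = 0 at h1
    rw [h1] at hn
    norm_num at hn

theorem two_le_degree {χ : Cfsg.IrrCharacter G} (h : χ ≠ principalIrr) :
    2 ≤ degree (χ : G → ℂ) := by
  have hp := IsIrrCharacter.degree_pos χ.2
  by_contra hlt
  have h1 : (χ : G → ℂ) 1 = 1 := by
    rw [← cast_degree, show degree (χ : G → ℂ) = 1 by omega]
    norm_num
  obtain ⟨f, hf⟩ := IsCharacter.exists_linear (IsIrrCharacter.isCharacter χ.2) h1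
  refine (ne_principal_iff χ).1 h (funext fun g => ?_)
  have hker : commutator G ≤ f.ker := Abelianization.commutator_subset_ker f
  rw [hf g, show f g = 1 from hker (commutator_eq_top hx ▸ Subgroup.mem_top g), Units.val_one]

omit hx in
theorem mult_principal {φ : G → ℂ} {m : Cfsg.IrrCharacter G → ℕ}
    (hm : φ = ∑ χ, (m χ : ℂ) • (χ : G → ℂ)) :
    Cfsg.classInner φ (fun _ => (1 : ℂ)) = (m principalIrr : ℂ) := by
  rw [hm]
  exact classInner_sum_smul_irr (fun χ => (m χ : ℂ)) principalIrr

theorem sum_defect {φ : G → ℂ} {m : Cfsg.IrrCharacter G → ℕ}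
    (hm : φ = ∑ χ, (m χ : ℂ) • (χ : G → ℂ)) :
    φ 1 - φ x = ((∑ χ, m χ * defect x χ : ℕ) : ℂ) := by
  rw [hm]
  simp only [Finset.sum_apply, Pi.smul_apply, smul_eq_mul, ← Finset.sum_sub_distrib, ← mul_sub,
    sub_eq_defect hx, Nat.cast_sum, Nat.cast_mul]

/-- A character of defect four is a multiple of the principal character plus one irreducible. -/
theorem exists_single {φ : G → ℂ} (hφ : Cfsg.IsCharacter G φ) {n m0 : ℕ} (h1 : φ 1 = (n : ℂ))
    (hm0 : Cfsg.classInner φ (fun _ => (1 : ℂ)) = (m0 : ℂ)) (hu : φ x = φ 1 - 4)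
    (hn : n ≠ m0 + 4) :
    ∃ χ : Cfsg.IrrCharacter G, χ ≠ principalIrr ∧
      φ = (χ : G → ℂ) + (m0 : ℂ) • (fun _ => (1 : ℂ)) ∧
      (χ : G → ℂ) x = (χ : G → ℂ) 1 - 4 := by
  obtain ⟨m, hm⟩ := IsCharacter.exists_nat_combination hφ
  have hmp : m principalIrr = m0 := by
    have := (mult_principal hm).symm.trans hm0
    exact_mod_cast this
  have hD : ∑ χ, m χ * defect x χ = 4 := by
    have := sum_defect hx hm
    rw [hu, sub_sub_cancel] at this
    exact_mod_cast this.symm
  have hdeg : ∑ χ, m χ * degree (χ : G → ℂ) = n := by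
    have : ((∑ χ, m χ * degree (χ : G → ℂ) : ℕ) : ℂ) = φ 1 := by
      rw [hm]
      simp only [Finset.sum_apply, Pi.smul_apply, smul_eq_mul, Nat.cast_sum, Nat.cast_mul,
        cast_degree]
    rw [h1] at this
    exact_mod_cast this
  by_cases hex : ∃ χ, χ ≠ principalIrr ∧ 0 < m χ ∧ (χ : G → ℂ) x ≠ 0
  · obtain ⟨χ, hχ, hmχ, hv⟩ := hex
    have hd : defect x χ = 4 := by rw [defect, if_neg hχ, if_neg hv]
    have hsplit := Finset.add_sum_erase Finset.univ (fun ψ => m ψ * defect x ψ) (Finset.mem_univ χ)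
    rw [hD, hd] at hsplit
    have hm1 : m χ = 1 := by omega
    have hrest : ∀ ψ, ψ ≠ χ → ψ ≠ principalIrr → m ψ = 0 := by
      intro ψ hne hψ
      have h0 : ∑ ψ ∈ Finset.univ.erase χ, m ψ * defect x ψ = 0 := by omega
      have := (Finset.sum_eq_zero_iff.1 h0) ψ (Finset.mem_erase.2 ⟨hne, Finset.mem_univ _⟩)
      rcases Nat.mul_eq_zero.1 this with h | h
      · exact h
      · exact absurd h (defect_pos x hψ).ne'
    refine ⟨χ, hχ, ?_, ?_⟩
    · rw [hm, ← Finset.sum_subset (Finset.subset_univ ({χ, principalIrr} : Finset _)),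
        Finset.sum_pair hχ, hm1, hmp, Nat.cast_one, one_smul]
      · rfl
      · intro ψ _ hψ
        simp only [Finset.mem_insert, Finset.mem_singleton, not_or] at hψ
        rw [hrest ψ hψ.1 hψ.2, Nat.cast_zero, zero_smul]
    · have h := sub_eq_defect hx χ
      rw [hd, Nat.cast_ofNat] at h
      linear_combination -h
  · exfalso
    apply hn
    push Not at hex
    have hterm : ∀ ψ, m ψ * degree (ψ : G → ℂ) =
        m ψ * defect x ψ + if ψ = principalIrr then m0 else 0 := by
      intro ψ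
      by_cases hψ : ψ = principalIrr
      · subst hψ
        rw [if_pos rfl, defect_principal, mul_zero, zero_add, hmp]
        have : degree ((principalIrr : Cfsg.IrrCharacter G) : G → ℂ) = 1 := by simp [degree]
        rw [this, mul_one]
      · rw [if_neg hψ, add_zero]
        rcases Nat.eq_zero_or_pos (m ψ) with h | h
        · rw [h, zero_mul, zero_mul]
        · rw [defect, if_neg hψ, if_pos (hex ψ hψ h)]
    rw [Finset.sum_congr rfl fun ψ _ => hterm ψ, Finset.sum_add_distrib, hD,
      Finset.sum_ite_eq'] at hdeg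
    rw [if_pos (Finset.mem_univ _)] at hdeg
    omega

/-- A character of degree two vanishes at `x`. -/
theorem value_degree_two {χ : Cfsg.IrrCharacter G} (h2 : degree (χ : G → ℂ) = 2) :
    (χ : G → ℂ) x = 0 := by
  by_contra hv
  have h1 : (χ : G → ℂ) 1 = 2 := by rw [← cast_degree, h2]; norm_num
  have hne : χ ≠ principalIrr := by
    rintro rfl
    norm_num at h1
  have hval : (χ : G → ℂ) x = -2 := by
    rcases hx χ ((ne_principal_iff χ).1 hne) with h | h
    · linear_combination -h + h1
    · exact absurd h hv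
  have hφ : Cfsg.IsCharacter G ((χ : G → ℂ) * fun g => conj ((χ : G → ℂ) g)) :=
    IsCharacter.mul (IsIrrCharacter.isCharacter χ.2)
      (IsIrrCharacter.isCharacter (CharTwist.isIrrCharacter_conj χ.2))
  obtain ⟨m, hm⟩ := IsCharacter.exists_nat_combination hφ
  have hD := sum_defect hx hm
  simp only [Pi.mul_apply, h1, hval, map_neg, map_ofNat] at hD
  have hD0 : ∑ ψ, m ψ * defect x ψ = 0 := by
    have : ((∑ ψ, m ψ * defect x ψ : ℕ) : ℂ) = ((0 : ℕ) : ℂ) := by rw [← hD]; norm_num
    exact_mod_cast this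
  have hzero : ∀ ψ, ψ ≠ principalIrr → m ψ = 0 := fun ψ hψ => by
    rcases Nat.mul_eq_zero.1 ((Finset.sum_eq_zero_iff.1 hD0) ψ (Finset.mem_univ _)) with h | h
    · exact h
    · exact absurd h (defect_pos x hψ).ne'
  have hone : Cfsg.classInner ((χ : G → ℂ) * fun g => conj ((χ : G → ℂ) g)) (fun _ => (1 : ℂ)) =
      1 := by
    refine Eq.trans ?_ (classInner_irr_self χ.2)
    simp [Cfsg.classInner]
  have hmp : m principalIrr = 1 := by
    have := (mult_principal hm).symm.trans hone
    exact_mod_cast this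
  have hev := congrFun hm 1
  rw [Finset.sum_apply, Finset.sum_eq_single (principalIrr : Cfsg.IrrCharacter G)
    (fun ψ _ hψ => by simp [hzero ψ hψ]) (by simp)] at hev
  simp [hmp, h1] at hev
  norm_num [Complex.ext_iff] at hev

theorem not_norm_one {φ : G → ℂ} (hφ : Cfsg.IsCharacter G φ) (h1 : φ 1 = 9) (hu : φ x = 1) :
    Cfsg.classInner φ φ ≠ 1 ∧ Cfsg.classInner φ φ ≠ 0 := by
  refine ⟨fun h => ?_, fun h => ?_⟩
  · have hirr := IsCharacter.isIrrCharacter_of_classInner_self hφ h
    rcases hx ⟨φ, hirr⟩ (fun e => by have := congrFun e 1; simp [h1] at this) with h' | h'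
    · simp only [h1, hu] at h'; norm_num at h'
    · simp only [hu] at h'; exact one_ne_zero h'
  · obtain ⟨m, rfl⟩ := IsCharacter.exists_nat_combination hφ
    rw [classInner_sum_smul_sum_smul] at h
    have h' : ∑ χ, ((m χ * m χ : ℕ) : ℂ) = 0 := by
      rw [← h]; exact Finset.sum_congr rfl fun χ _ => by simp
    have h'' : ∑ χ, m χ * m χ = 0 := by exact_mod_cast h'
    have hz : ∀ χ, m χ = 0 := fun χ => by
      simpa using (Finset.sum_eq_zero_iff.1 h'') χ (Finset.mem_univ _)
    simp [hz] at h1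

end CfsgLib.DegMinusValue
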