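import Cfsg.Agent.Lib.DegMinusValue.Three

/-!
# The two characters of degree three and the quotient of order sixty
-/

set_option autoImplicit false

open scoped ComplexConjugate Classical

namespace CfsgLib.DegMinusValue

open CfsgLib.Char

universe u

variable {G : Type u} [Group G] [Fintype G] {x : G}

/-- A real character of degree three with value `-1` and the constituent of its square. -/
structure Real3 (x : G) (ψ w : Cfsg.IrrCharacter G) : Prop where
  deg : (ψ : G → ℂ) 1 = 3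
  value : (ψ : G → ℂ) x = -1
  deg_w : (w : G → ℂ) 1 = 5
  value_w : (w : G → ℂ) x = 1
  real : ∀ g, conj ((ψ : G → ℂ) g) = (ψ : G → ℂ) g
  sq : ∀ g, (ψ : G → ℂ) g * (ψ : G → ℂ) g = (ψ : G → ℂ) g + (w : G → ℂ) g + 1

variable {ψ φ w : Cfsg.IrrCharacter G} (hψ : Real3 x ψ w)
include hψ

omit [Fintype G] in
theorem Real3.cast_re (g : G) : (((ψ : G → ℂ) g).re : ℂ) = (ψ : G → ℂ) g :=
  Complex.conj_eq_iff_re.1 (hψ.real g)

theorem Real3.square (hx : Hyp x) (g : G) :
    ((ψ : G → ℂ) (g * g)).re = ((ψ : G → ℂ) g).re * ((ψ : G → ℂ) g).re - 2 * ((ψ : G → ℂ) g).re := by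
  have h := square_identity hx ψ hψ.deg g
  rw [hψ.real] at h
  have h' : (ψ : G → ℂ) (g * g) = (ψ : G → ℂ) g * (ψ : G → ℂ) g - 2 * (ψ : G → ℂ) g := by
    linear_combination -h
  rw [h', ← hψ.cast_re g, ← Complex.ofReal_mul, show (2 : ℂ) = ((2 : ℝ) : ℂ) by norm_num,
    ← Complex.ofReal_mul, ← Complex.ofReal_sub, Complex.ofReal_re, Complex.ofReal_re]

theorem Real3.range (hx : Hyp x) (g : G) :
    -1 ≤ ((ψ : G → ℂ) g).re ∧ ((ψ : G → ℂ) g).re ≤ 3 := by
  obtain ⟨a, b, c, ha, hb, hc, habc, h1, -⟩ := exists_triple hx ψ hψ.deg g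
  have ha' : a ≠ 0 := fun h => by simp [h] at ha
  have hb' : b ≠ 0 := fun h => by simp [h] at hb
  have hc' : c ≠ 0 := fun h => by simp [h] at hc
  have hca : conj a = b * c := by
    rw [← Complex.inv_eq_conj ha]; field_simp; linear_combination -habc
  have hcb : conj b = a * c := by
    rw [← Complex.inv_eq_conj hb]; field_simp; linear_combination -habc
  have hcc : conj c = a * b := by
    rw [← Complex.inv_eq_conj hc]; field_simp; linear_combination -habc
  have hr := hψ.real g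
  rw [h1, map_add, map_add, hca, hcb, hcc] at hr
  have hz : (1 - a) * (1 - b) * (1 - c) = 0 := by linear_combination hr - habc
  have hre : ∀ z : ℂ, ‖z‖ = 1 → -1 ≤ z.re ∧ z.re ≤ 1 := fun z hz => by
    have := abs_le.1 (le_trans (Complex.abs_re_le_norm z) hz.le)
    exact this
  have key : ∀ y z : ℂ, ‖y‖ = 1 → ‖z‖ = 1 → y * z = 1 → (ψ : G → ℂ) g = 1 + y + z →
      -1 ≤ ((ψ : G → ℂ) g).re ∧ ((ψ : G → ℂ) g).re ≤ 3 := by
    intro y z hy _ hyz he
    have hz' : z = conj y := by
      rw [← Complex.inv_eq_conj hy]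
      exact eq_inv_of_mul_eq_one_right hyz
    have := hre y hy
    rw [he, hz', Complex.add_re, Complex.add_re, Complex.one_re, Complex.conj_re]
    constructor <;> linarith
  rcases mul_eq_zero.1 hz with h | h
  · rcases mul_eq_zero.1 h with h | h
    · have e : a = 1 := (sub_eq_zero.1 h).symm
      subst e
      exact key b c hb hc (by rw [one_mul] at habc; exact habc) h1
    · have e : b = 1 := (sub_eq_zero.1 h).symm
      subst e
      exact key a c ha hc (by rw [mul_one] at habc; exact habc) (by rw [h1]; ring)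
  · have e : c = 1 := (sub_eq_zero.1 h).symm
    subst e
    exact key a b ha hb (by rw [mul_one] at habc; exact habc) (by rw [h1]; ring)

variable (hφ : Real3 x φ w)
include hφ

theorem differ (hx : Hyp x) {g : G} (h : ((ψ : G → ℂ) g).re ≠ ((φ : G → ℂ) g).re) :
    ((ψ : G → ℂ) g).re + ((φ : G → ℂ) g).re = 1 ∧
      ((ψ : G → ℂ) g).re * ((ψ : G → ℂ) g).re = ((ψ : G → ℂ) g).re + 1 := by
  have hp : ∀ y : G, (((ψ : G → ℂ) y).re - ((φ : G → ℂ) y).re) *
      (((ψ : G → ℂ) y).re + ((φ : G → ℂ) y).re - 1) = 0 := by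
    intro y
    have e : ((ψ : G → ℂ) y - (φ : G → ℂ) y) * ((ψ : G → ℂ) y + (φ : G → ℂ) y - 1) = 0 := by
      linear_combination hψ.sq y - hφ.sq y
    rw [← hψ.cast_re y, ← hφ.cast_re y, show (1 : ℂ) = ((1 : ℝ) : ℂ) by norm_num,
      ← Complex.ofReal_sub, ← Complex.ofReal_add, ← Complex.ofReal_sub, ← Complex.ofReal_mul] at e
    exact_mod_cast e
  have hs : ((ψ : G → ℂ) g).re + ((φ : G → ℂ) g).re = 1 := by
    rcases mul_eq_zero.1 (hp g) with h' | h'
    · exact absurd (sub_eq_zero.1 h') h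
    · linarith
  refine ⟨hs, ?_⟩
  rcases mul_eq_zero.1 (hp (g * g)) with h' | h'
  · rw [hψ.square hx, hφ.square hx] at h'
    exfalso
    apply h
    nlinarith
  · rw [hψ.square hx, hφ.square hx] at h'
    nlinarith

variable (hne : ψ ≠ φ)
include hne

theorem moments (hx : Hyp x) :
    (∀ g : G, ((ψ : G → ℂ) g).re = ((φ : G → ℂ) g).re →
        ((ψ : G → ℂ) g).re = 3 ∨ ((ψ : G → ℂ) g).re = -1 ∨ ((ψ : G → ℂ) g).re = 0) ∧
      60 * (Finset.univ.filter fun g : G => ((ψ : G → ℂ) g).re = 3).card = Fintype.card G := by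
  have hN : (Nat.card G : ℂ) ≠ 0 := Nat.cast_ne_zero.2 Nat.card_pos.ne'
  let p : Cfsg.IrrCharacter G := principalIrr
  have hp : ∀ g, (p : G → ℂ) g = 1 := fun g => rfl
  have conv : ∀ (f : G → ℝ) (a b : G → ℂ) (v : ℝ),
      (∀ g, (f g : ℂ) = a g * conj (b g)) → Cfsg.classInner a b = (v : ℂ) →
      ∑ g, f g = v * (Fintype.card G : ℝ) := by
    intro f a b v hf h
    have : ((∑ g, f g : ℝ) : ℂ) = ((v * (Fintype.card G : ℝ) : ℝ) : ℂ) := by
      rw [Complex.ofReal_sum, Complex.ofReal_mul, Complex.ofReal_natCast, ← h, Cfsg.classInner,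
        Finset.sum_congr rfl fun g _ => hf g, ← Nat.card_eq_fintype_card]
      field_simp
    exact_mod_cast this
  have n1 : ∀ a : Cfsg.IrrCharacter G, (a : G → ℂ) 1 ≠ 1 → (a : G → ℂ) ≠ (p : G → ℂ) :=
    fun a h e => h (congrFun e 1)
  have single : ∀ {α : Cfsg.IrrCharacter G}, Real3 x α w →
      (∑ g, ((α : G → ℂ) g).re = 0) ∧
      (∑ g, ((α : G → ℂ) g).re ^ 2 = (Fintype.card G : ℝ)) ∧
      (∑ g, ((α : G → ℂ) g).re ^ 3 = (Fintype.card G : ℝ)) ∧
      (∑ g, ((α : G → ℂ) g).re ^ 4 = 3 * (Fintype.card G : ℝ)) := by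
    intro α hα
    have hαp : (α : G → ℂ) ≠ p := n1 α (by rw [hα.deg]; norm_num)
    have hwp : (w : G → ℂ) ≠ p := n1 w (by rw [hα.deg_w]; norm_num)
    have hαw : (α : G → ℂ) ≠ w := fun h => by
      have := congrFun h 1; rw [hα.deg, hα.deg_w] at this; norm_num at this
    have hT : (α : G → ℂ) * (α : G → ℂ) = (α : G → ℂ) + (w : G → ℂ) + (p : G → ℂ) :=
      funext fun g => by simp [p, hα.sq g]
    have h0 : Cfsg.classInner (α : G → ℂ) (p : G → ℂ) = ((0 : ℝ) : ℂ) := by
      rw [classInner_irr_of_ne α.2 p.2 hαp]; norm_num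
    have h2 : Cfsg.classInner (α : G → ℂ) (α : G → ℂ) = ((1 : ℝ) : ℂ) := by
      rw [classInner_irr_self α.2]; norm_num
    have h3 : Cfsg.classInner ((α : G → ℂ) * (α : G → ℂ)) (α : G → ℂ) = ((1 : ℝ) : ℂ) := by
      rw [hT, classInner_add_left, classInner_add_left, classInner_irr_self α.2,
        classInner_irr_of_ne w.2 α.2 hαw.symm, classInner_irr_of_ne p.2 α.2 hαp.symm]
      norm_num
    have h4 : Cfsg.classInner ((α : G → ℂ) * (α : G → ℂ)) ((α : G → ℂ) * (α : G → ℂ)) =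
        ((3 : ℝ) : ℂ) := by
      rw [hT]
      simp only [classInner_add_left, classInner_add_right]
      rw [classInner_irr_self α.2, classInner_irr_self w.2, classInner_irr_self p.2,
        classInner_irr_of_ne w.2 α.2 hαw.symm, classInner_irr_of_ne p.2 α.2 hαp.symm,
        classInner_irr_of_ne α.2 w.2 hαw, classInner_irr_of_ne p.2 w.2 hwp.symm,
        classInner_irr_of_ne α.2 p.2 hαp, classInner_irr_of_ne w.2 p.2 hwp]
      norm_num
    refine ⟨?_, ?_, ?_, conv (fun g => ((α : G → ℂ) g).re ^ 4) _ _ 3 (fun g => ?_) h4⟩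
    · simpa using conv (fun g => ((α : G → ℂ) g).re) _ _ 0
        (fun g => by rw [hp, map_one, mul_one, hα.cast_re]) h0
    · simpa using conv (fun g => ((α : G → ℂ) g).re ^ 2) _ _ 1
        (fun g => by rw [hα.real, Complex.ofReal_pow, hα.cast_re, pow_two]) h2
    · simpa using conv (fun g => ((α : G → ℂ) g).re ^ 3) _ _ 1
        (fun g => by rw [Pi.mul_apply, hα.real, Complex.ofReal_pow, hα.cast_re]; ring) h3
    · rw [Pi.mul_apply, map_mul, hα.real, Complex.ofReal_pow, hα.cast_re]; ring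
  have hXY : ∑ g, ((ψ : G → ℂ) g).re * ((φ : G → ℂ) g).re = 0 := by
    simpa using conv (fun g => ((ψ : G → ℂ) g).re * ((φ : G → ℂ) g).re) (ψ : G → ℂ) (φ : G → ℂ) 0
      (fun g => by rw [hφ.real, Complex.ofReal_mul, hψ.cast_re, hφ.cast_re])
      (by rw [classInner_irr_of_ne ψ.2 φ.2 (fun h => hne (Subtype.ext h))]; norm_num)
  obtain ⟨a1, a2, a3, a4⟩ := single hψ
  obtain ⟨b1, b2, b3, b4⟩ := single hφ
  let X : G → ℝ := fun g => ((ψ : G → ℂ) g).re
  let Y : G → ℝ := fun g => ((φ : G → ℂ) g).re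
  let H : ℝ → ℝ := fun y => 3 * y ^ 2 + 2 * y ^ 3 - y ^ 4
  let Z : G → ℝ := fun g => H (X g) + H (Y g) - 2 * (X g - Y g) ^ 2
  have hH : ∀ y, H y = y ^ 2 * ((y + 1) * (3 - y)) := fun y => by simp only [H]; ring
  have hval : ∀ g, X g ≠ Y g → Z g = 0 ∧
      X g ^ 2 + X g + (Y g ^ 2 + Y g) - 4 / 5 * (X g - Y g) ^ 2 = 0 := by
    intro g hg
    obtain ⟨hs, hq⟩ := differ hψ hφ hx hg
    have hy : Y g = 1 - X g := by simp only [X, Y]; linarith
    have hx' : X g ^ 2 = X g + 1 := by simp only [X]; linarith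
    constructor
    · simp only [Z, H, hy]
      linear_combination (-2 * X g ^ 2 + 2 * X g - 2) * hx'
    · rw [hy]
      linear_combination (-6 / 5 : ℝ) * hx'
  have hZnn : ∀ g, 0 ≤ Z g := by
    intro g
    by_cases hg : X g = Y g
    · obtain ⟨l, r⟩ := hψ.range hx g
      simp only [Z, hH, ← hg, sub_self]
      have l' : 0 ≤ X g + 1 := by simp only [X]; linarith
      have r' : 0 ≤ 3 - X g := by simp only [X]; linarith
      have h' : 0 ≤ X g ^ 2 * ((X g + 1) * (3 - X g)) := by positivity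
      linarith
    · exact (hval g hg).1.ge
  have hZ : ∑ g, Z g = 0 := by
    have e : ∀ g, Z g = X g ^ 2 + Y g ^ 2 + (2 * X g ^ 3 - X g ^ 4) + (2 * Y g ^ 3 - Y g ^ 4) +
        4 * (X g * Y g) := fun g => by simp only [Z, H]; ring
    rw [Finset.sum_congr rfl fun g _ => e g]
    simp only [Finset.sum_add_distrib, Finset.sum_sub_distrib, ← Finset.mul_sum, X, Y]
    rw [a2, b2, a3, b3, a4, b4, hXY]
    ring
  have hvals : ∀ g, X g = Y g → X g = 3 ∨ X g = -1 ∨ X g = 0 := by
    intro g hg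
    have h0 := (Finset.sum_eq_zero_iff_of_nonneg fun g _ => hZnn g).1 hZ g (Finset.mem_univ g)
    simp only [Z, hH, ← hg, sub_self] at h0
    have h1 : X g ^ 2 * ((X g + 1) * (3 - X g)) = 0 := by linarith
    rcases mul_eq_zero.1 h1 with h | h
    · exact Or.inr (Or.inr (pow_eq_zero_iff (n := 2) (by norm_num) |>.1 h))
    · rcases mul_eq_zero.1 h with h | h
      · exact Or.inr (Or.inl (by linarith))
      · exact Or.inl (by linarith)
  refine ⟨hvals, ?_⟩
  have hW : ∑ g, (X g ^ 2 + X g + (Y g ^ 2 + Y g) - 4 / 5 * (X g - Y g) ^ 2) =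
      2 / 5 * (Fintype.card G : ℝ) := by
    have e : ∀ g, X g ^ 2 + X g + (Y g ^ 2 + Y g) - 4 / 5 * (X g - Y g) ^ 2 =
        1 / 5 * X g ^ 2 + X g + (1 / 5 * Y g ^ 2 + Y g) + 8 / 5 * (X g * Y g) := fun g => by ring
    rw [Finset.sum_congr rfl fun g _ => e g]
    simp only [Finset.sum_add_distrib, ← Finset.mul_sum, X, Y]
    rw [a1, a2, b1, b2, hXY]
    ring
  have hW' : ∀ g, X g ^ 2 + X g + (Y g ^ 2 + Y g) - 4 / 5 * (X g - Y g) ^ 2 =
      if X g = 3 then 24 else 0 := by
    intro g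
    by_cases hg : X g = Y g
    · rcases hvals g hg with h | h | h <;> rw [← hg, h] <;> norm_num
    · rw [(hval g hg).2, if_neg]
      intro h3
      obtain ⟨-, hq⟩ := differ hψ hφ hx hg
      change X g * X g = X g + 1 at hq
      rw [h3] at hq
      norm_num at hq
  rw [Finset.sum_congr rfl fun g _ => hW' g, Finset.sum_ite, Finset.sum_const,
    Finset.sum_const_zero, add_zero, nsmul_eq_mul] at hW
  have : ((60 * (Finset.univ.filter fun g : G => X g = 3).card : ℕ) : ℝ) =
      (Fintype.card G : ℝ) := by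
    push_cast
    linarith
  exact_mod_cast this

omit hψ hφ hne

/-- The data extracted from the characters. -/
theorem main (hx : Hyp x) (hx1 : x ≠ 1) :
    ∃ K : Subgroup G, K.Normal ∧ K.index = 60 ∧ x ∉ K ∧ x * x ∈ K ∧
      Nat.card (Subgroup.centralizer ({x} : Set G)) = 4 ∧
      (∀ g : G, g ∉ K → g * g ∈ K → IsConj g x) ∧
      ∀ g : G, g * g * (g * g) ∈ K → g * g ∈ K := by
  have hdata : ∀ α, Neg x α → ∃ v, Real3 x α v := fun α hα => by
    obtain ⟨v, h1, h2, h3, h4⟩ := square_real hx hx1 α hα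
    exact ⟨v, hα.1, hα.2, h1, h2, h3, h4⟩
  have hsum := sum_val hx hx1
  have hcpos : 0 < Nat.card (Subgroup.centralizer ({x} : Set G)) := Nat.card_pos
  obtain ⟨ψ, hψm, hψv⟩ : ∃ ψ ∈ Finset.univ.erase principalIrr, val x ψ < 0 := by
    by_contra hno
    push Not at hno
    have := Finset.sum_nonneg hno
    omega
  have hψn := neg_of_val_neg hx hψv
  obtain ⟨w, hψ⟩ := hdata ψ hψn
  have hw0 : w ≠ principalIrr := fun h => by
    have := hψ.deg_w; rw [h] at this; norm_num at this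
  have hψw : ψ ≠ w := fun h => by
    have := hψ.deg_w; rw [← h, hψ.deg] at this; norm_num at this
  have hvw : val x w = 1 := by
    have := val_cast hx w; rw [hψ.value_w] at this; exact_mod_cast this
  obtain ⟨φ, hφv, hne⟩ : ∃ φ, val x φ < 0 ∧ ψ ≠ φ := by
    by_contra hno
    push Not at hno
    have h1 : ∑ χ ∈ (Finset.univ.erase principalIrr).erase ψ, val x χ ≥ val x w := by
      refine Finset.single_le_sum (f := fun χ => val x χ) (fun χ hχ => ?_)
        (Finset.mem_erase.2 ⟨hψw.symm, Finset.mem_erase.2 ⟨hw0, Finset.mem_univ _⟩⟩)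
      by_contra hlt
      exact (Finset.mem_erase.1 hχ).1 (hno χ (not_le.1 hlt)).symm
    rw [← Finset.add_sum_erase _ _ hψm, val_of_neg hx hψn] at hsum
    omega
  obtain ⟨w', hφ'⟩ := hdata φ (neg_of_val_neg hx hφv)
  have hww := pair hx hψn (neg_of_val_neg hx hφv) hne hψ.deg_w hφ'.deg_w hψ.real hφ'.real hψ.sq
    hφ'.sq
  subst hww
  obtain ⟨hvals, hcount⟩ := moments hψ hφ' hne hx
  -- there are no further ones
  have honly : ∀ η, val x η < 0 → η = ψ ∨ η = φ := by
    intro η hη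
    by_contra hno
    push Not at hno
    obtain ⟨v, hη'⟩ := hdata η (neg_of_val_neg hx hη)
    have hv : w = v := pair hx hψn (neg_of_val_neg hx hη) hno.1.symm hψ.deg_w hη'.deg_w hψ.real
      hη'.real hψ.sq hη'.sq
    subst hv
    obtain ⟨hvals', -⟩ := moments hψ hη' hno.1.symm hx
    obtain ⟨g, hg⟩ : ∃ g, ((ψ : G → ℂ) g).re ≠ ((φ : G → ℂ) g).re := by
      by_contra hall
      push Not at hall
      refine hne (Subtype.ext (funext fun g => ?_))
      rw [← hψ.cast_re g, ← hφ'.cast_re g, hall g]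
    obtain ⟨hs, hq⟩ := differ hψ hφ' hx hg
    have hg' : ((ψ : G → ℂ) g).re ≠ ((η : G → ℂ) g).re := fun e => by
      rcases hvals' g e with h | h | h <;> rw [h] at hq <;> norm_num at hq
    obtain ⟨hs', -⟩ := differ hψ hη' hx hg'
    have hg'' : ((φ : G → ℂ) g).re = ((η : G → ℂ) g).re := by linarith
    obtain ⟨hvals'', -⟩ := moments hφ' hη' (Ne.symm hno.2) hx
    have hq' : ((φ : G → ℂ) g).re * ((φ : G → ℂ) g).re = ((φ : G → ℂ) g).re + 1 := by
      have : ((φ : G → ℂ) g).re = 1 - ((ψ : G → ℂ) g).re := by linarith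
      rw [this]; linarith
    rcases hvals'' g hg'' with h | h | h <;> rw [h] at hq' <;> norm_num at hq'
  have hφm : φ ∈ (Finset.univ.erase principalIrr).erase ψ := by
    refine Finset.mem_erase.2 ⟨hne.symm, Finset.mem_erase.2 ⟨fun h => ?_, Finset.mem_univ _⟩⟩
    have := hφ'.deg; rw [h] at this; norm_num at this
  have hwm : w ∈ ((Finset.univ.erase principalIrr).erase ψ).erase φ := by
    refine Finset.mem_erase.2 ⟨fun h => ?_,
      Finset.mem_erase.2 ⟨hψw.symm, Finset.mem_erase.2 ⟨hw0, Finset.mem_univ _⟩⟩⟩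
    have := hψ.deg_w; rw [h, hφ'.deg] at this; norm_num at this
  let rest := (((Finset.univ : Finset (Cfsg.IrrCharacter G)).erase principalIrr).erase ψ).erase φ
    |>.erase w
  have hrest : ∀ χ ∈ rest, 0 ≤ val x χ := fun χ hχ => by
    simp only [rest, Finset.mem_erase] at hχ
    by_contra hlt
    rcases honly χ (not_le.1 hlt) with h | h
    · exact hχ.2.2.1 h
    · exact hχ.2.1 h
  have hsplit := hsum
  rw [← Finset.add_sum_erase _ _ hψm, ← Finset.add_sum_erase _ _ hφm,
    ← Finset.add_sum_erase _ _ hwm, val_of_neg hx hψn, val_of_neg hx (neg_of_val_neg hx hφv),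
    hvw] at hsplit
  have hr0 := Finset.sum_nonneg hrest
  simp only [rest] at hr0
  have hrz : ∑ χ ∈ rest, val x χ = 0 := by simp only [rest]; omega
  have hc4 : Nat.card (Subgroup.centralizer ({x} : Set G)) = 4 := by omega
  have hzero : ∀ χ : Cfsg.IrrCharacter G, χ ≠ principalIrr → χ ≠ ψ → χ ≠ φ → χ ≠ w →
      (χ : G → ℂ) x = 0 := by
    intro χ h1 h2 h3 h4
    rw [← val_cast hx, (Finset.sum_eq_zero_iff_of_nonneg hrest).1 hrz χ
      (by simp [rest, h1, h2, h3, h4]), Int.cast_zero]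
  -- the kernel
  obtain ⟨n, ρ, hρ, e⟩ := ψ.2
  have hn : (Module.finrank ℂ (Fin n → ℂ) : ℂ) = 3 := by
    rw [← hψ.deg, ← e, Representation.char_one]
  let K : Subgroup G := MonoidHom.ker ρ
  have hK : ∀ g, g ∈ K ↔ ((ψ : G → ℂ) g).re = 3 := by
    intro g
    constructor
    · intro h
      have h1 := (character_eq_degree_iff ρ g).2 (MonoidHom.mem_ker.1 h)
      rw [e, hn] at h1
      rw [h1]; norm_num
    · intro h
      refine MonoidHom.mem_ker.2 ((character_eq_degree_iff ρ g).1 ?_)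
      rw [e, hn, ← hψ.cast_re g, h]; norm_num
  have hsq := hψ.square hx
  have hxre : ((ψ : G → ℂ) x).re = -1 := by rw [hψ.value]; norm_num
  refine ⟨K, MonoidHom.normal_ker ρ, ?_, fun h => ?_, ?_, hc4, fun g hg hgg => ?_, fun g hg => ?_⟩
  · have h1 := K.card_mul_index
    have h2 : Nat.card K = (Finset.univ.filter fun g : G => ((ψ : G → ℂ) g).re = 3).card := by
      rw [← Fintype.card_subtype, ← Nat.card_eq_fintype_card]
      exact Nat.card_congr (Equiv.subtypeEquivRight hK)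
    rw [h2, Nat.card_eq_fintype_card (α := G), ← hcount, mul_comm 60] at h1
    have hpos : 0 < (Finset.univ.filter fun g : G => ((ψ : G → ℂ) g).re = 3).card := by
      rw [← h2]; exact Nat.card_pos
    exact Nat.eq_of_mul_eq_mul_left hpos h1
  · have := (hK x).1 h
    rw [hxre] at this
    norm_num at this
  · rw [hK, hsq, hxre]; norm_num
  · rw [hK] at hg
    rw [hK, hsq] at hgg
    have hg1 : ((ψ : G → ℂ) g).re = -1 := by
      have : (((ψ : G → ℂ) g).re - 3) * (((ψ : G → ℂ) g).re + 1) = 0 := by linarith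
      rcases mul_eq_zero.1 this with h | h
      · exact absurd (sub_eq_zero.1 h) hg
      · linarith
    have hφg : ((φ : G → ℂ) g).re = -1 := by
      by_contra hne'
      obtain ⟨-, hq⟩ := differ hψ hφ' hx (g := g) (by rw [hg1]; exact Ne.symm hne')
      rw [hg1] at hq
      norm_num at hq
    by_contra hnc
    have h := sum_mul_conj g x
    rw [if_neg hnc] at h
    have hwg : (w : G → ℂ) g = 1 := by
      have := hψ.sq g
      rw [← hψ.cast_re g, hg1] at this
      push_cast at this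
      linear_combination -this
    have hu1 := Finset.add_sum_erase Finset.univ
      (fun χ : Cfsg.IrrCharacter G => (χ : G → ℂ) g * conj ((χ : G → ℂ) x))
      (Finset.mem_univ principalIrr)
    rw [← hu1, ← Finset.add_sum_erase _ _ hψm, ← Finset.add_sum_erase _ _ hφm,
      ← Finset.add_sum_erase _ _ hwm, Finset.sum_eq_zero, hψ.value, hφ'.value, hψ.value_w, hwg,
      ← hψ.cast_re g, ← hφ'.cast_re g, hg1, hφg] at h
    · norm_num at h
    · intro χ hχ
      simp only [Finset.mem_erase] at hχ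
      rw [hzero χ hχ.2.2.2.1 hχ.2.2.1 hχ.2.1 hχ.1, map_zero, mul_zero]
  · rw [hK, hsq, hsq] at hg
    rw [hK, hsq]
    by_cases heq : ((ψ : G → ℂ) g).re = ((φ : G → ℂ) g).re
    · rcases hvals g heq with h | h | h <;> rw [h] at hg ⊢ <;> norm_num at hg
      all_goals norm_num
    · obtain ⟨-, hq⟩ := differ hψ hφ' hx heq
      exfalso
      have e2 : ((ψ : G → ℂ) g).re * ((ψ : G → ℂ) g).re - 2 * ((ψ : G → ℂ) g).re =
          1 - ((ψ : G → ℂ) g).re := by linarith
      rw [e2] at hg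
      nlinarith

end CfsgLib.DegMinusValue
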