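import Cfsg.Agent.Lib.DegMinusValue.Basic
import Cfsg.Agent.Lib.DegMinusValue.SymSquare

/-!
# The characters of degree three
-/

set_option autoImplicit false

open scoped ComplexConjugate Classical

namespace CfsgLib.DegMinusValue

open CfsgLib.Char

universe u

variable {G : Type u} [Group G] [Fintype G] {x : G} (hx : Hyp x)
include hx

/-- The eigenvalues of a character of degree three of a perfect group. -/
theorem exists_triple (ψ : Cfsg.IrrCharacter G) (h3 : (ψ : G → ℂ) 1 = 3) (g : G) :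
    ∃ a b c : ℂ, ‖a‖ = 1 ∧ ‖b‖ = 1 ∧ ‖c‖ = 1 ∧ a * b * c = 1 ∧
      (ψ : G → ℂ) g = a + b + c ∧ (ψ : G → ℂ) (g * g) = a * a + b * b + c * c := by
  obtain ⟨n, ρ, hρ, e⟩ := ψ.2
  rw [← e, Representation.char_one, Module.finrank_fin_fun] at h3
  obtain rfl : n = 3 := by exact_mod_cast h3
  obtain ⟨B, μ, hμ, hB⟩ := exists_eigenbasis ρ g
  have hnorm : ∀ i, ‖μ i‖ = 1 := fun i =>
    Complex.norm_eq_one_of_pow_eq_one (hμ i) (orderOf_pos g).ne'
  have hfin : Module.finrank ℂ (Fin 3 → ℂ) = 3 := Module.finrank_fin_fun ℂ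
  let e3 : Fin (Module.finrank ℂ (Fin 3 → ℂ)) ≃ Fin 3 := finCongr hfin
  let B' := B.reindex e3
  let μ' : Fin 3 → ℂ := fun i => μ (e3.symm i)
  have hB' : ∀ i, ρ g (B' i) = μ' i • B' i := fun i => by
    simp only [B', μ', Module.Basis.reindex_apply]
    exact hB _
  let δ : G →* ℂˣ := MonoidHom.toHomUnits ((LinearMap.det).comp ρ)
  have hδ : δ g = 1 := by
    have hker : commutator G ≤ δ.ker := Abelianization.commutator_subset_ker δ
    exact hker (commutator_eq_top hx ▸ Subgroup.mem_top g)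
  have hdet : LinearMap.det (ρ g) = μ' 0 * μ' 1 * μ' 2 := by
    rw [← LinearMap.det_toMatrix B']
    have hM : LinearMap.toMatrix B' B' (ρ g) = Matrix.diagonal μ' := by
      ext i j
      rw [LinearMap.toMatrix_apply, hB', map_smul, Module.Basis.repr_self, Matrix.diagonal_apply]
      by_cases h : i = j
      · subst h; simp
      · simp [h, Finsupp.single_eq_of_ne h]
    rw [hM, Matrix.det_diagonal, Fin.prod_univ_three]
  have htr : ρ.character g = μ' 0 + μ' 1 + μ' 2 := by
    rw [← Fin.sum_univ_three]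
    exact trace_eq_sum_of_eigenbasis _ B' μ' hB'
  have htr2 : ρ.character (g * g) = μ' 0 * μ' 0 + μ' 1 * μ' 1 + μ' 2 * μ' 2 := by
    rw [← Fin.sum_univ_three (f := fun i => μ' i * μ' i)]
    refine trace_eq_sum_of_eigenbasis _ B' _ fun i => ?_
    rw [map_mul, Module.End.mul_apply, hB', map_smul, hB', smul_smul]
  refine ⟨μ' 0, μ' 1, μ' 2, hnorm _, hnorm _, hnorm _, ?_, ?_, ?_⟩
  · rw [← hdet]
    have := congrArg Units.val hδ
    simpa [δ] using this
  · rw [← e]; exact htr
  · rw [← e]; exact htr2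

/-- The exterior square of a character of degree three is its complex conjugate. -/
theorem square_identity (ψ : Cfsg.IrrCharacter G) (h3 : (ψ : G → ℂ) 1 = 3) (g : G) :
    (ψ : G → ℂ) g * (ψ : G → ℂ) g - (ψ : G → ℂ) (g * g) = 2 * conj ((ψ : G → ℂ) g) := by
  obtain ⟨a, b, c, ha, hb, hc, habc, h1, h2⟩ := exists_triple hx ψ h3 g
  have ha' : a ≠ 0 := fun h => by simp [h] at ha
  have hb' : b ≠ 0 := fun h => by simp [h] at hb
  have hc' : c ≠ 0 := fun h => by simp [h] at hc
  have hca : conj a = b * c := by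
    rw [← Complex.inv_eq_conj ha]; field_simp; linear_combination -habc
  have hcb : conj b = a * c := by
    rw [← Complex.inv_eq_conj hb]; field_simp; linear_combination -habc
  have hcc : conj c = a * b := by
    rw [← Complex.inv_eq_conj hc]; field_simp; linear_combination -habc
  rw [h1, h2, map_add, map_add, hca, hcb, hcc]
  ring

/-- A nonreal or real character of degree three with value `-1` at `x`. -/
def Neg (x : G) (ψ : Cfsg.IrrCharacter G) : Prop := (ψ : G → ℂ) 1 = 3 ∧ (ψ : G → ℂ) x = -1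

theorem neg_of_lt {ψ : Cfsg.IrrCharacter G} (h : degree (ψ : G → ℂ) < defect x ψ) : Neg x ψ := by
  have hp : ψ ≠ principalIrr := fun h0 => by rw [h0, defect_principal] at h; omega
  have hd : defect x ψ = 4 := by
    rw [defect, if_neg hp] at h ⊢
    split_ifs at h ⊢
    · omega
    · rfl
  have h2 := two_le_degree hx hp
  have hne2 : degree (ψ : G → ℂ) ≠ 2 := fun h2' => by
    have := value_degree_two hx h2'
    rw [defect, if_neg hp, if_pos this] at hd
    omega
  have h3 : degree (ψ : G → ℂ) = 3 := by omega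
  have h1 : (ψ : G → ℂ) 1 = 3 := by rw [← cast_degree, h3]; norm_num
  refine ⟨h1, ?_⟩
  have := sub_eq_defect hx ψ
  rw [hd, h1, Nat.cast_ofNat] at this
  linear_combination -this

/-- The structure of the square of a character of degree three with value `-1`. -/
theorem exists_square (ψ : Cfsg.IrrCharacter G) (hψ : Neg x ψ) :
    ∃ (m0 : ℕ) (w : Cfsg.IrrCharacter G), m0 ≤ 1 ∧ (w : G → ℂ) 1 = 6 - (m0 : ℂ) ∧
      (w : G → ℂ) x = 2 - (m0 : ℂ) ∧
      ∀ g, (ψ : G → ℂ) g * (ψ : G → ℂ) g = conj ((ψ : G → ℂ) g) + ((w : G → ℂ) g + (m0 : ℂ)) := by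
  obtain ⟨h3, hv⟩ := hψ
  let S : G → ℂ := fun g => ((ψ : G → ℂ) g * (ψ : G → ℂ) g + (ψ : G → ℂ) (g * g)) / 2
  have hS : Cfsg.IsCharacter G S := isCharacter_symSquare (IsIrrCharacter.isCharacter ψ.2)
  have hSg : ∀ g, S g = (ψ : G → ℂ) g * (ψ : G → ℂ) g - conj ((ψ : G → ℂ) g) := fun g => by
    simp only [S]
    linear_combination (-1 / 2 : ℂ) * square_identity hx ψ h3 g
  have hS1 : S 1 = ((6 : ℕ) : ℂ) := by rw [hSg, h3, map_ofNat]; norm_num
  have hSx : S x = S 1 - 4 := by rw [hSg, hS1, hv]; simp; norm_num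
  obtain ⟨m0, hm0⟩ := IsCharacter.exists_nat_classInner hS (isIrrCharacter_principal (G := G))
  have hψb : Cfsg.IsIrrCharacter G (fun g => conj ((ψ : G → ℂ) g)) :=
    CharTwist.isIrrCharacter_conj ψ.2
  have hne1 : (fun g => conj ((ψ : G → ℂ) g)) ≠ fun _ => (1 : ℂ) := fun h => by
    have := congrFun h 1
    simp [h3, map_ofNat] at this
  have hm01 : m0 ≤ 1 := by
    have h1 : Cfsg.classInner S (fun _ => (1 : ℂ)) =
        Cfsg.classInner (ψ : G → ℂ) (fun g => conj ((ψ : G → ℂ) g)) -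
          Cfsg.classInner (fun g => conj ((ψ : G → ℂ) g)) (fun _ => (1 : ℂ)) := by
      simp only [Cfsg.classInner, hSg, map_one, mul_one, Complex.conj_conj]
      rw [← mul_sub, ← Finset.sum_sub_distrib]
    rw [classInner_irr_of_ne hψb isIrrCharacter_principal hne1, sub_zero, hm0,
      classInner_irr ψ.2 hψb] at h1
    split_ifs at h1
    · exact le_of_eq (by exact_mod_cast h1)
    · exact le_trans (le_of_eq (by exact_mod_cast h1)) zero_le_one
  obtain ⟨w, -, hw, hwx⟩ := exists_single hx hS hS1 hm0 hSx (by omega)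
  have hw1 : (w : G → ℂ) 1 = 6 - (m0 : ℂ) := by
    have := congrFun hw 1
    simp only [hS1, Pi.add_apply, Pi.smul_apply, smul_eq_mul, mul_one, Nat.cast_ofNat] at this
    linear_combination -this
  refine ⟨m0, w, hm01, hw1, ?_, fun g => ?_⟩
  · rw [hwx, hw1]; ring
  · have := congrFun hw g
    simp only [hSg, Pi.add_apply, Pi.smul_apply, smul_eq_mul, mul_one] at this
    linear_combination this

omit hx in
theorem classInner_mul_rearrange (a b c d : G → ℂ) :
    Cfsg.classInner (a * b) (c * d) =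
      Cfsg.classInner (a * fun g => conj (c g)) ((fun g => conj (b g)) * d) := by
  simp only [Cfsg.classInner, Pi.mul_apply, map_mul, Complex.conj_conj]
  congr 1
  exact Finset.sum_congr rfl fun g _ => by ring

omit hx in
theorem classInner_mul_one (a b : G → ℂ) :
    Cfsg.classInner (a * b) (fun _ => (1 : ℂ)) = Cfsg.classInner a (fun g => conj (b g)) := by
  simp only [Cfsg.classInner, Pi.mul_apply, map_one, mul_one, Complex.conj_conj]

/-- The value at `x` as an integer. -/
noncomputable def val (x : G) (χ : Cfsg.IrrCharacter G) : ℤ :=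
  (degree (χ : G → ℂ) : ℤ) - (defect x χ : ℤ)

theorem val_cast (χ : Cfsg.IrrCharacter G) : ((val x χ : ℤ) : ℂ) = (χ : G → ℂ) x := by
  rw [val, Int.cast_sub, Int.cast_natCast, Int.cast_natCast, ← sub_eq_defect hx, cast_degree]
  ring

theorem neg_of_val_neg {ψ : Cfsg.IrrCharacter G} (h : val x ψ < 0) : Neg x ψ :=
  neg_of_lt hx (by unfold val at h; omega)

theorem val_of_neg {ψ : Cfsg.IrrCharacter G} (h : Neg x ψ) : val x ψ = -1 := by
  have := val_cast hx ψ
  rw [h.2, show (-1 : ℂ) = ((-1 : ℤ) : ℂ) by norm_num] at this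
  exact_mod_cast this

/-- The sum of the values at `x` of the nonprincipal characters is negative. -/
theorem sum_val (hx1 : x ≠ 1) :
    4 * ∑ χ ∈ Finset.univ.erase principalIrr, val x χ =
      - (Nat.card (Subgroup.centralizer ({x} : Set G)) : ℤ) := by
  have hc : (∑ χ : Cfsg.IrrCharacter G, val x χ * val x χ) =
      (Nat.card (Subgroup.centralizer ({x} : Set G)) : ℤ) := by
    have h := sum_mul_conj x x
    rw [if_pos (IsConj.refl x)] at h
    have : ((∑ χ : Cfsg.IrrCharacter G, val x χ * val x χ : ℤ) : ℂ) =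
        ((Nat.card (Subgroup.centralizer ({x} : Set G)) : ℤ) : ℂ) := by
      rw [Int.cast_natCast, ← h, Int.cast_sum]
      exact Finset.sum_congr rfl fun χ _ => by
        rw [Int.cast_mul, val_cast hx, conj_value hx]
    exact_mod_cast this
  have h0 : ∑ χ : Cfsg.IrrCharacter G, (degree (χ : G → ℂ) : ℤ) * val x χ = 0 := by
    have h := sum_apply_one_mul (G := G) x
    rw [if_neg hx1] at h
    have : ((∑ χ : Cfsg.IrrCharacter G, (degree (χ : G → ℂ) : ℤ) * val x χ : ℤ) : ℂ) =
        ((0 : ℤ) : ℂ) := by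
      rw [Int.cast_zero, ← h, Int.cast_sum]
      exact Finset.sum_congr rfl fun χ _ => by
        rw [Int.cast_mul, Int.cast_natCast, val_cast hx, cast_degree]
    exact_mod_cast this
  have hterm : ∀ χ : Cfsg.IrrCharacter G, (degree (χ : G → ℂ) : ℤ) * val x χ =
      val x χ * val x χ + 4 * if χ = principalIrr then 0 else val x χ := by
    intro χ
    unfold val defect
    split_ifs with h1 h2
    · simp
    · simp
    · ring
  rw [Finset.sum_congr rfl fun χ _ => hterm χ, Finset.sum_add_distrib, hc, ← Finset.mul_sum] at h0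
  have he : ∑ χ : Cfsg.IrrCharacter G, (if χ = principalIrr then 0 else val x χ) =
      ∑ χ ∈ Finset.univ.erase principalIrr, val x χ := by
    rw [← Finset.add_sum_erase _ _ (Finset.mem_univ principalIrr), if_pos rfl, zero_add]
    exact Finset.sum_congr rfl fun χ hχ => if_neg (Finset.mem_erase.1 hχ).1
  rw [he] at h0
  linarith

/-- A character of positive value in a product. -/
theorem exists_pos {φ : G → ℂ} (hφ : Cfsg.IsCharacter G φ)
    (h0 : Cfsg.classInner φ (fun _ => (1 : ℂ)) = 0) (hu : φ x = 1) :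
    ∃ χ : Cfsg.IrrCharacter G, χ ≠ principalIrr ∧ Cfsg.classInner φ (χ : G → ℂ) ≠ 0 ∧
      0 < val x χ := by
  obtain ⟨m, hm⟩ := IsCharacter.exists_nat_combination hφ
  have hmp : m principalIrr = 0 := by
    have := (mult_principal hm).symm.trans h0
    exact_mod_cast this
  have h1 : ∑ χ, (m χ : ℤ) * val x χ = 1 := by
    have : ((∑ χ, (m χ : ℤ) * val x χ : ℤ) : ℂ) = ((1 : ℤ) : ℂ) := by
      rw [Int.cast_one, ← hu, hm, Finset.sum_apply, Int.cast_sum]
      exact Finset.sum_congr rfl fun χ _ => by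
        rw [Int.cast_mul, Int.cast_natCast, val_cast hx, Pi.smul_apply, smul_eq_mul]
    exact_mod_cast this
  by_contra hno
  push Not at hno
  have : ∑ χ, (m χ : ℤ) * val x χ ≤ 0 := Finset.sum_nonpos fun χ _ => by
    rcases Nat.eq_zero_or_pos (m χ) with hz | hp
    · simp [hz]
    · have hne : χ ≠ principalIrr := fun h => by rw [h, hmp] at hp; omega
      refine mul_nonpos_of_nonneg_of_nonpos (by positivity) (hno χ hne ?_)
      rw [hm, classInner_sum_smul_irr (fun χ => (m χ : ℂ)) χ]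
      exact Nat.cast_ne_zero.2 hp.ne'
  omega

omit hx in
theorem common_constituent {φ φ' : G → ℂ} (hφ : Cfsg.IsCharacter G φ)
    (hφ' : Cfsg.IsCharacter G φ') (h : Cfsg.classInner φ φ' = 0) (χ : Cfsg.IrrCharacter G)
    (h1 : Cfsg.classInner φ (χ : G → ℂ) ≠ 0) : Cfsg.classInner φ' (χ : G → ℂ) = 0 := by
  obtain ⟨m, rfl⟩ := IsCharacter.exists_nat_combination hφ
  obtain ⟨m', rfl⟩ := IsCharacter.exists_nat_combination hφ'
  rw [classInner_sum_smul_sum_smul] at h
  have h' : ∑ ψ, m ψ * m' ψ = 0 := by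
    have : ((∑ ψ, m ψ * m' ψ : ℕ) : ℂ) = ((0 : ℕ) : ℂ) := by
      rw [Nat.cast_zero, ← h, Nat.cast_sum]
      exact Finset.sum_congr rfl fun ψ _ => by simp
    exact_mod_cast this
  rw [classInner_sum_smul_irr (fun χ => (m χ : ℂ)) χ] at h1
  rw [classInner_sum_smul_irr (fun χ => (m' χ : ℂ)) χ]
  rcases Nat.mul_eq_zero.1 ((Finset.sum_eq_zero_iff.1 h') χ (Finset.mem_univ _)) with hz | hz
  · exact absurd (by rw [hz, Nat.cast_zero]) h1
  · rw [hz, Nat.cast_zero]

/-- The conjugate product of a nonreal character of degree three. -/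
theorem exists_adjoint {ψ : Cfsg.IrrCharacter G} (h3 : (ψ : G → ℂ) 1 = 3)
    {w : Cfsg.IrrCharacter G} (hw1 : (w : G → ℂ) 1 = 6)
    (hsq : ∀ g, (ψ : G → ℂ) g * (ψ : G → ℂ) g = conj ((ψ : G → ℂ) g) + (w : G → ℂ) g) :
    ∃ R : Cfsg.IrrCharacter G, (R : G → ℂ) 1 = 8 ∧
      ((ψ : G → ℂ) * fun g => conj ((ψ : G → ℂ) g)) = (fun _ => (1 : ℂ)) + (R : G → ℂ) := by
  let ψb : Cfsg.IrrCharacter G := ⟨_, CharTwist.isIrrCharacter_conj ψ.2⟩
  let A : G → ℂ := (ψ : G → ℂ) * (ψb : G → ℂ)
  have hA : Cfsg.IsCharacter G A :=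
    IsCharacter.mul (IsIrrCharacter.isCharacter ψ.2) (IsIrrCharacter.isCharacter ψb.2)
  have hA1 : Cfsg.classInner A (fun _ => (1 : ℂ)) = 1 := by
    rw [classInner_mul_one]
    simp [ψb, classInner_irr_self ψ.2]
  have hne : ψb ≠ w := fun h => by
    have := congrArg (fun χ : Cfsg.IrrCharacter G => (χ : G → ℂ) 1) h
    simp [ψb, h3, hw1, map_ofNat] at this
  have hT : (ψ : G → ℂ) * (ψ : G → ℂ) = (ψb : G → ℂ) + (w : G → ℂ) := funext fun g => hsq g
  have hAA : Cfsg.classInner A A = 2 := by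
    have : Cfsg.classInner A A =
        Cfsg.classInner ((ψ : G → ℂ) * (ψ : G → ℂ)) ((ψ : G → ℂ) * (ψ : G → ℂ)) := by
      simp only [A, ψb, Cfsg.classInner, Pi.mul_apply, map_mul, Complex.conj_conj]
      congr 1
      exact Finset.sum_congr rfl fun g _ => by ring
    rw [this, hT, classInner_add_left, classInner_add_right, classInner_add_right,
      classInner_irr_self ψb.2, classInner_irr_self w.2,
      classInner_irr_of_ne ψb.2 w.2 (fun h => hne (Subtype.ext h)),
      classInner_irr_of_ne w.2 ψb.2 (fun h => hne (Subtype.ext h).symm)]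
    norm_num
  obtain ⟨m, hm⟩ := IsCharacter.exists_nat_combination hA
  have hmp : m principalIrr = 1 := by
    have := (mult_principal hm).symm.trans hA1
    exact_mod_cast this
  let B : G → ℂ := A - fun _ => (1 : ℂ)
  have hB : Cfsg.IsCharacter G B := by
    have : B = ∑ χ ∈ Finset.univ.erase principalIrr, (m χ) • (χ : G → ℂ) := by
      have h2 := Finset.add_sum_erase Finset.univ (fun χ => (m χ : ℂ) • (χ : G → ℂ))
        (Finset.mem_univ principalIrr)
      rw [← hm, hmp, Nat.cast_one, one_smul] at h2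
      simp only [B, ← h2, ← Nat.cast_smul_eq_nsmul ℂ]
      exact add_sub_cancel_left _ _
    rw [this]
    exact IsCharacter.sum _ _ fun χ _ => IsCharacter.nsmul (IsIrrCharacter.isCharacter χ.2) _
  have hBB : Cfsg.classInner B B = 1 := by
    have h11 : Cfsg.classInner (fun _ : G => (1 : ℂ)) (fun _ => 1) = 1 :=
      classInner_irr_self isIrrCharacter_principal
    rw [classInner_sub_left, classInner_sub_right, classInner_sub_right, hAA, hA1, h11,
      ← classInner_conj_symm A, hA1, map_one]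
    norm_num
  refine ⟨⟨B, IsCharacter.isIrrCharacter_of_classInner_self hB hBB⟩, ?_, ?_⟩
  · simp [B, A, ψb, h3, map_ofNat]; norm_num
  · show A = (fun _ => (1 : ℂ)) + B
    exact (add_sub_cancel _ _).symm

omit hx in
theorem degree_eight_not_mem {φ : G → ℂ} (hφ : Cfsg.IsCharacter G φ) (h1 : φ 1 = 9)
    (h0 : Cfsg.classInner φ (fun _ => (1 : ℂ)) = 0)
    (hd : ∀ χ : Cfsg.IrrCharacter G, χ ≠ principalIrr → 2 ≤ degree (χ : G → ℂ))
    (R : Cfsg.IrrCharacter G) (hR : (R : G → ℂ) 1 = 8) :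
    Cfsg.classInner φ (R : G → ℂ) = 0 := by
  obtain ⟨m, hm⟩ := IsCharacter.exists_nat_combination hφ
  have hmp : m principalIrr = 0 := by
    have := (mult_principal hm).symm.trans h0
    exact_mod_cast this
  have hdR : degree (R : G → ℂ) = 8 := by
    have : (degree (R : G → ℂ) : ℂ) = 8 := by rw [cast_degree, hR]
    exact_mod_cast this
  have hdeg : ∑ χ, m χ * degree (χ : G → ℂ) = 9 := by
    have : ((∑ χ, m χ * degree (χ : G → ℂ) : ℕ) : ℂ) = φ 1 := by
      rw [hm]
      simp only [Finset.sum_apply, Pi.smul_apply, smul_eq_mul, Nat.cast_sum, Nat.cast_mul,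
        cast_degree]
    rw [h1] at this
    exact_mod_cast this
  rw [hm, classInner_sum_smul_irr (fun χ => (m χ : ℂ)) R]
  by_contra hne
  have hpos : 0 < m R := Nat.pos_of_ne_zero fun h => hne (by rw [h, Nat.cast_zero])
  rw [← Finset.add_sum_erase Finset.univ _ (Finset.mem_univ R), hdR] at hdeg
  obtain ⟨χ, hχ, hχ0⟩ := Finset.exists_ne_zero_of_sum_ne_zero
    (show ∑ χ ∈ Finset.univ.erase R, m χ * degree (χ : G → ℂ) ≠ 0 by omega)
  have hle := Finset.single_le_sum (f := fun χ => m χ * degree (χ : G → ℂ))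
    (fun _ _ => Nat.zero_le _) hχ
  have hmχ : m χ ≠ 0 := fun h => hχ0 (by rw [h, zero_mul])
  have hχp : χ ≠ principalIrr := fun h => hmχ (h ▸ hmp)
  have := hd χ hχp
  have h2 : 2 ≤ m χ * degree (χ : G → ℂ) :=
    le_trans this (Nat.le_mul_of_pos_left _ (Nat.pos_of_ne_zero hmχ))
  omega

/-- All characters of degree three with value `-1` are real. -/
theorem square_real (hx1 : x ≠ 1) (ψ : Cfsg.IrrCharacter G) (hψ : Neg x ψ) :
    ∃ w : Cfsg.IrrCharacter G, (w : G → ℂ) 1 = 5 ∧ (w : G → ℂ) x = 1 ∧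
      (∀ g, conj ((ψ : G → ℂ) g) = (ψ : G → ℂ) g) ∧
      ∀ g, (ψ : G → ℂ) g * (ψ : G → ℂ) g = (ψ : G → ℂ) g + (w : G → ℂ) g + 1 := by
  obtain ⟨m0, w, hm, hw1, hwx, hsq⟩ := exists_square hx ψ hψ
  let ψb : Cfsg.IrrCharacter G := ⟨_, CharTwist.isIrrCharacter_conj ψ.2⟩
  have hb : Cfsg.classInner ((ψ : G → ℂ) * (ψ : G → ℂ)) (fun _ => (1 : ℂ)) =
      Cfsg.classInner (ψ : G → ℂ) (ψb : G → ℂ) := classInner_mul_one _ _
  have hT : (ψ : G → ℂ) * (ψ : G → ℂ) = (ψb : G → ℂ) + ((w : G → ℂ) +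
      (m0 : ℂ) • fun _ => (1 : ℂ)) := by
    funext g; simp [ψb, hsq g]
  have hwp : w ≠ principalIrr := fun h => by
    subst h
    interval_cases m0 <;> norm_num at hw1
  have hψbp : (ψb : G → ℂ) ≠ fun _ => (1 : ℂ) := fun h => by
    have := congrFun h 1
    simp [ψb, hψ.1, map_ofNat] at this
  have hreal : m0 = 1 → ψ = ψb := by
    intro h
    subst h
    rw [hT, classInner_add_left, classInner_add_left, classInner_smul_left,
      classInner_irr_of_ne ψb.2 isIrrCharacter_principal hψbp,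
      classInner_irr_of_ne w.2 isIrrCharacter_principal ((ne_principal_iff w).1 hwp),
      classInner_irr_self isIrrCharacter_principal, classInner_irrCharacter] at hb
    split_ifs at hb with h
    · exact h
    · norm_num at hb
  rcases Nat.eq_zero_or_pos m0 with h0 | h0
  swap
  · obtain rfl : m0 = 1 := by omega
    have hr : ∀ g, conj ((ψ : G → ℂ) g) = (ψ : G → ℂ) g := fun g => by
      conv_rhs => rw [hreal rfl]
    refine ⟨w, by rw [hw1]; norm_num, by rw [hwx]; norm_num, hr, fun g => ?_⟩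
    rw [hsq g, hr g]
    push_cast
    ring
  exfalso
  subst h0
  simp only [Nat.cast_zero, sub_zero, add_zero] at hw1 hwx hsq
  have hne : ψ ≠ ψb := fun h => by
    have h2 : Cfsg.classInner ((ψ : G → ℂ) * (ψ : G → ℂ)) (fun _ => (1 : ℂ)) = 0 := by
      rw [hT, classInner_add_left, classInner_add_left, classInner_smul_left, Nat.cast_zero,
        zero_mul, add_zero, classInner_irr_of_ne ψb.2 isIrrCharacter_principal hψbp,
        classInner_irr_of_ne w.2 isIrrCharacter_principal ((ne_principal_iff w).1 hwp), add_zero]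
    rw [h2, ← h, classInner_irr_self ψ.2] at hb
    exact zero_ne_one hb
  obtain ⟨R, hR, hA⟩ := exists_adjoint hx hψ.1 hw1 hsq
  let S : Finset (Cfsg.IrrCharacter G) := Finset.univ.filter fun χ => val x χ < 0
  have hS : ∀ φ ∈ S, Neg x φ := fun φ h => neg_of_val_neg hx (Finset.mem_filter.1 h).2
  let S' := S.erase ψb
  have hψS : ψ ∈ S' := Finset.mem_erase.2 ⟨hne, Finset.mem_filter.2
    ⟨Finset.mem_univ _, by rw [val_of_neg hx hψ]; norm_num⟩⟩
  have hchar : ∀ φ : Cfsg.IrrCharacter G, Cfsg.IsCharacter G ((ψ : G → ℂ) * (φ : G → ℂ)) :=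
    fun φ => IsCharacter.mul (IsIrrCharacter.isCharacter ψ.2) (IsIrrCharacter.isCharacter φ.2)
  have horth : ∀ φ ∈ S', ∀ η ∈ S', φ ≠ η →
      Cfsg.classInner ((ψ : G → ℂ) * (φ : G → ℂ)) ((ψ : G → ℂ) * (η : G → ℂ)) = 0 := by
    intro φ hφ η hη hφη
    let φb : Cfsg.IrrCharacter G := ⟨_, CharTwist.isIrrCharacter_conj φ.2⟩
    have hP : Cfsg.IsCharacter G ((φb : G → ℂ) * (η : G → ℂ)) :=
      IsCharacter.mul (IsIrrCharacter.isCharacter φb.2) (IsIrrCharacter.isCharacter η.2)
    have h9 : ((φb : G → ℂ) * (η : G → ℂ)) 1 = 9 := by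
      simp [φb, (hS φ (Finset.mem_of_mem_erase hφ)).1, (hS η (Finset.mem_of_mem_erase hη)).1,
        map_ofNat]
      norm_num
    have h0 : Cfsg.classInner ((φb : G → ℂ) * (η : G → ℂ)) (fun _ => (1 : ℂ)) = 0 := by
      rw [classInner_mul_one]
      refine classInner_irr_of_ne φb.2 (CharTwist.isIrrCharacter_conj η.2) fun h => hφη ?_
      refine Subtype.ext (funext fun g => ?_)
      simpa [φb] using congrArg conj (congrFun h g)
    rw [classInner_mul_rearrange, hA, classInner_add_left, ← classInner_conj_symm, h0, map_zero,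
      ← classInner_conj_symm,
      degree_eight_not_mem hP h9 h0 (fun χ h => two_le_degree hx h) R hR, map_zero, add_zero]
  have hpos : ∀ φ ∈ S', ∃ χ : Cfsg.IrrCharacter G, χ ≠ principalIrr ∧
      Cfsg.classInner ((ψ : G → ℂ) * (φ : G → ℂ)) (χ : G → ℂ) ≠ 0 ∧
      (if φ = ψ then 2 else 1) ≤ val x χ := by
    intro φ hφ
    by_cases h : φ = ψ
    · subst h
      refine ⟨w, hwp, ?_, ?_⟩
      · rw [hT, classInner_add_left, classInner_add_left, classInner_smul_left, Nat.cast_zero,
          zero_mul, add_zero, classInner_irr_self w.2,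
          classInner_irr_of_ne ψb.2 w.2 (fun h => by
            have := congrFun h 1
            simp [ψb, hψ.1, hw1, map_ofNat] at this), zero_add]
        exact one_ne_zero
      · rw [if_pos rfl]
        have := val_cast hx w
        rw [hwx] at this
        exact le_of_eq (by exact_mod_cast this.symm)
    · obtain ⟨χ, h1, h2, h3⟩ := exists_pos hx (hchar φ) (by
        rw [classInner_mul_one]
        refine classInner_irr_of_ne ψ.2 (CharTwist.isIrrCharacter_conj φ.2) fun h' => ?_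
        refine (Finset.mem_erase.1 hφ).1 (Subtype.ext (funext fun g => ?_))
        simp [ψb, congrFun h' g]) (by
        simp [hψ.2, (hS φ (Finset.mem_of_mem_erase hφ)).2])
      exact ⟨χ, h1, h2, by rw [if_neg h]; omega⟩
  choose! f hfp hfc hfv using hpos
  have hinj : Set.InjOn f S' := by
    intro φ hφ η hη he
    by_contra hne'
    have := common_constituent (hchar φ) (hchar η) (horth φ hφ η hη hne') (f φ) (hfc φ hφ)
    rw [he] at this
    exact hfc η hη this
  have hT0 := sum_val hx hx1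
  have hcpos : 0 < Nat.card (Subgroup.centralizer ({x} : Set G)) := Nat.card_pos
  have hsub : S'.image f ⊆ (Finset.univ.erase principalIrr) \ S := by
    intro χ hχ
    obtain ⟨φ, hφ, rfl⟩ := Finset.mem_image.1 hχ
    refine Finset.mem_sdiff.2 ⟨Finset.mem_erase.2 ⟨hfp φ hφ, Finset.mem_univ _⟩, fun h => ?_⟩
    have h1 := hfv φ hφ
    have h2 := (Finset.mem_filter.1 h).2
    split_ifs at h1 <;> omega
  have hSsub : S ⊆ Finset.univ.erase principalIrr := fun χ hχ => by
    refine Finset.mem_erase.2 ⟨fun h => ?_, Finset.mem_univ _⟩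
    have h2 := (Finset.mem_filter.1 hχ).2
    simp [h, val, defect_principal] at h2
    omega
  have h1 : ((S'.card : ℤ) + 1) ≤ ∑ χ ∈ (Finset.univ.erase principalIrr) \ S, val x χ := by
    refine le_trans ?_ (Finset.sum_le_sum_of_subset_of_nonneg hsub fun χ hχ _ => ?_)
    · rw [Finset.sum_image hinj]
      refine le_trans ?_ (Finset.sum_le_sum fun φ hφ => hfv φ hφ)
      rw [← Finset.add_sum_erase _ _ hψS, if_pos rfl,
        Finset.sum_congr rfl fun φ hφ => if_neg (Finset.mem_erase.1 hφ).1,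
        Finset.sum_const, Finset.card_erase_of_mem hψS, Nat.smul_one_eq_cast]
      have := Finset.card_pos.2 ⟨ψ, hψS⟩
      push_cast [Nat.cast_sub this]
      omega
    · have := (Finset.mem_sdiff.1 hχ).2
      simpa [S] using this
  have h2 : ∑ χ ∈ S, val x χ = -(S.card : ℤ) := by
    rw [Finset.sum_congr rfl fun χ hχ => val_of_neg hx (hS χ hχ)]
    simp
  have h3 : S.card ≤ S'.card + 1 := by
    have := Finset.pred_card_le_card_erase (s := S) (a := ψb)
    simp only [S'] 
    omega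
  rw [← Finset.sum_sdiff hSsub, h2] at hT0
  omega

/-- Two real characters of degree three share the constituent of degree five. -/
theorem pair {ψ φ : Cfsg.IrrCharacter G} (hψ : Neg x ψ) (hφ : Neg x φ) (hne : ψ ≠ φ)
    {w w' : Cfsg.IrrCharacter G} (hw : (w : G → ℂ) 1 = 5) (hw' : (w' : G → ℂ) 1 = 5)
    (hr : ∀ g, conj ((ψ : G → ℂ) g) = (ψ : G → ℂ) g)
    (hr' : ∀ g, conj ((φ : G → ℂ) g) = (φ : G → ℂ) g)
    (hsq : ∀ g, (ψ : G → ℂ) g * (ψ : G → ℂ) g = (ψ : G → ℂ) g + (w : G → ℂ) g + 1)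
    (hsq' : ∀ g, (φ : G → ℂ) g * (φ : G → ℂ) g = (φ : G → ℂ) g + (w' : G → ℂ) g + 1) :
    w = w' := by
  by_contra hww
  obtain ⟨hn, -⟩ := not_norm_one hx
    (IsCharacter.mul (IsIrrCharacter.isCharacter ψ.2) (IsIrrCharacter.isCharacter φ.2))
    (by rw [Pi.mul_apply, hψ.1, hφ.1]; norm_num) (by simp [hψ.2, hφ.2])
  apply hn
  have hT : (ψ : G → ℂ) * (ψ : G → ℂ) = (ψ : G → ℂ) + (w : G → ℂ) + fun _ => (1 : ℂ) :=
    funext fun g => hsq g
  have hT' : (φ : G → ℂ) * (φ : G → ℂ) = (φ : G → ℂ) + (w' : G → ℂ) + fun _ => (1 : ℂ) :=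
    funext fun g => hsq' g
  have : Cfsg.classInner ((ψ : G → ℂ) * (φ : G → ℂ)) ((ψ : G → ℂ) * (φ : G → ℂ)) =
      Cfsg.classInner ((ψ : G → ℂ) * (ψ : G → ℂ)) ((φ : G → ℂ) * (φ : G → ℂ)) := by
    rw [classInner_mul_rearrange]
    congr 1 <;> funext g <;> simp [hr, hr']
  have n1 : ∀ a : Cfsg.IrrCharacter G, (a : G → ℂ) 1 ≠ 1 → (a : G → ℂ) ≠ fun _ => (1 : ℂ) :=
    fun a h e => h (congrFun e 1)
  have hψw : (ψ : G → ℂ) ≠ w' := fun h => by
    have := congrFun h 1; rw [hψ.1, hw'] at this; norm_num at this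
  have hφw : (w : G → ℂ) ≠ φ := fun h => by
    have := congrFun h 1; rw [hw, hφ.1] at this; norm_num at this
  have p1 := isIrrCharacter_principal (G := G)
  rw [this, hT, hT']
  simp only [classInner_add_left, classInner_add_right]
  rw [classInner_irr_of_ne ψ.2 φ.2 (fun h => hne (Subtype.ext h)),
    classInner_irr_of_ne ψ.2 w'.2 hψw, classInner_irr_of_ne w.2 φ.2 hφw,
    classInner_irr_of_ne w.2 w'.2 (fun h => hww (Subtype.ext h)),
    classInner_irr_of_ne ψ.2 p1 (n1 ψ (by rw [hψ.1]; norm_num)),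
    classInner_irr_of_ne w.2 p1 (n1 w (by rw [hw]; norm_num)),
    classInner_irr_of_ne p1 φ.2 (n1 φ (by rw [hφ.1]; norm_num)).symm,
    classInner_irr_of_ne p1 w'.2 (n1 w' (by rw [hw']; norm_num)).symm,
    classInner_irr_self p1]
  norm_num

end CfsgLib.DegMinusValue
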